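import Mathlib.FieldTheory.IsAlgClosed.AlgebraicClosure
import Mathlib.RingTheory.Localization.Away.Basic
import Mathlib.RingTheory.IntegralClosure.IsIntegralClosure.Basic
import Mathlib.GroupTheory.OrderOfElement

/-!
# Avoiding finitely many algebraic numbers by cyclotomic sums; localizations of algebras integral over a field
-/

set_option autoImplicit false

universe u v

open Polynomial

namespace Groth.Agent.AmpleInt

/-- The sum `1 + X + ⋯ + X^(q-1)`. -/
noncomputable def geomSum (k : Type u) [CommRing k] (q : ℕ) : k[X] := ∑ i ∈ Finset.range q, X ^ i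

theorem aeval_geomSum {k : Type u} [CommRing k] {B : Type v} [CommRing B] [Algebra k B] (b : B) (q : ℕ) :
    aeval b (geomSum k q) = ∑ i ∈ Finset.range q, b ^ i := by
  simp [geomSum]

theorem exists_prime_isCoprime {k : Type u} [Field k] (P : k[X]) (hP : P ≠ 0) :
    ∃ q : ℕ, q.Prime ∧ IsCoprime P (geomSum k q) := by
  classical
  let K := AlgebraicClosure k
  let R : Finset K := (P.aroots K).toFinset
  obtain ⟨q, hqN, hq⟩ := Nat.exists_infinite_primes (R.sup orderOf + ringChar k + 2)
  refine ⟨q, hq, (isCoprime_iff_aeval_ne_zero_of_isAlgClosed k K P _).2 fun a => ?_⟩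
  by_contra hcon
  push Not at hcon
  obtain ⟨ha, hs⟩ := hcon
  rw [aeval_geomSum] at hs
  have haR : a ∈ R := Multiset.mem_toFinset.2 (mem_aroots.2 ⟨hP, ha⟩)
  have h1 : a ^ q = 1 := by
    have := geom_sum_mul a q
    rw [hs, zero_mul] at this
    exact (sub_eq_zero.1 this.symm)
  have hle : orderOf a ≤ R.sup orderOf := Finset.le_sup haR
  rcases (Nat.dvd_prime hq).1 (orderOf_dvd_of_pow_eq_one h1) with h | h
  · rw [orderOf_eq_one_iff] at h
    subst h
    simp only [one_pow, Finset.sum_const, Finset.card_range, nsmul_eq_mul, mul_one] at hs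
    have hk : (q : k) = 0 := (algebraMap k K).injective (by simpa using hs)
    rcases (Nat.dvd_prime hq).1 (ringChar.dvd hk) with h | h
    · exact CharP.ringChar_ne_one h
    · omega
  · omega

/-- A localization of an algebra integral over a field is integral. -/
theorem isIntegral_away {k : Type u} [Field k] {A : Type v} [CommRing A] [Algebra k A]
    [Algebra.IsIntegral k A] (f : A) (B : Type v) [CommRing B] [Algebra A B] [Algebra k B]
    [IsScalarTower k A B] [IsLocalization.Away f B] : Algebra.IsIntegral k B := by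
  have hfi : IsIntegral k (algebraMap A B f) := (Algebra.IsIntegral.isIntegral f).algebraMap
  obtain ⟨w, hw⟩ := IsLocalization.Away.algebraMap_isUnit (S := B) f
  rcases subsingleton_or_nontrivial B with hB | hB
  · exact ⟨fun b => Subsingleton.elim (0 : B) b ▸ isIntegral_zero⟩
  have hinv : IsIntegral k (↑w⁻¹ : B) := by
    have hP := minpoly.aeval k (algebraMap A B f)
    have hne : minpoly k (algebraMap A B f) ≠ 0 := minpoly.ne_zero hfi
    obtain ⟨R, hR⟩ : X ∣ minpoly k (algebraMap A B f) - C ((minpoly k (algebraMap A B f)).coeff 0) :=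
      X_dvd_sub_C
    have hc : (minpoly k (algebraMap A B f)).coeff 0 ≠ 0 := by
      intro h0
      rw [h0, C_0, sub_zero] at hR
      have hR0 : R ≠ 0 := fun h => hne (by rw [hR, h, mul_zero])
      have h2 : aeval (algebraMap A B f) R = 0 := by
        rw [hR, map_mul, aeval_X] at hP
        exact (IsUnit.mul_right_eq_zero ⟨w, hw⟩).1 hP
      have h3 := natDegree_le_of_dvd (minpoly.dvd k _ h2) hR0
      rw [hR, natDegree_mul X_ne_zero hR0, natDegree_X] at h3
      omega
    have h4 : (↑w : B) * aeval (algebraMap A B f) R =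
        - algebraMap k B ((minpoly k (algebraMap A B f)).coeff 0) := by
      have := congrArg (aeval (algebraMap A B f)) hR
      simp only [map_sub, map_mul, aeval_X, aeval_C, hP, zero_sub] at this
      rw [hw, this]
    have h5 : (↑w⁻¹ : B) = algebraMap k B (-((minpoly k (algebraMap A B f)).coeff 0)⁻¹) *
        aeval (algebraMap A B f) R := by
      refine w.inv_eq_of_mul_eq_one_right ?_
      rw [← mul_assoc, mul_comm (w : B), mul_assoc, h4, map_neg, neg_mul_neg, ← map_mul,
        inv_mul_cancel₀ hc, map_one]
    rw [h5]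
    refine isIntegral_algebraMap.mul ?_
    exact IsIntegral.of_mem_of_fg _ hfi.fg_adjoin_singleton _
      (Polynomial.aeval_mem_adjoin_singleton _ _)
  refine ⟨fun b => ?_⟩
  obtain ⟨n, a, ha⟩ := IsLocalization.Away.surj f b
  have : b = algebraMap A B a * (↑w⁻¹ : B) ^ n := by
    rw [← ha, ← hw, mul_assoc, ← mul_pow, Units.mul_inv, one_pow, mul_one]
  rw [this]
  exact ((Algebra.IsIntegral.isIntegral a).algebraMap).mul (hinv.pow n)

end Groth.Agent.AmpleInt
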