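import Groth.Agent.AmpleLib.Counit
import Groth.Agent.AmpleLib.GenOn
import Groth.Agent.AmpleInt.Algebra

/-!
# Merging two affine loci into one containing the points algebraic over a field
-/

set_option autoImplicit false

universe u

open CategoryTheory Limits AlgebraicGeometry Opposite TopologicalSpace

noncomputable section

namespace Groth.Agent.AmpleInt

open Groth.Agent.QCoh Groth.Agent.Props.GenLocus Groth.Agent.Props.GenTensor Groth.Agent.Props.GenProd
open Groth.Agent.AmpleLib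

variable {X : Scheme.{u}} {L : X.Modules}

theorem mem_locus_iff_co {k : ℕ} (σ : Γ(CohB1.tensorPow L k, ⊤)) {W : X.Opens} {e : Γ(L, W)}
    (he : IsGen L W e) {x : X} (hx : x ∈ W) :
    x ∈ locus σ ↔ IsUnit (X.presheaf.germ W x hx (co k σ le_top he)) := by
  rw [← X.mem_basicOpen, ← locus_inf_eq le_top he σ]
  exact ⟨fun h => ⟨h, hx⟩, fun h => h.1⟩

/-- Binary forms in two sections. -/
theorem exists_form2 (hL : PicF.IsInvertible L) {k : ℕ} (σ τ : Γ(CohB1.tensorPow L k, ⊤)) (d : ℕ)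
    (c : ℕ → ℕ) :
    ∃ ρ : Γ(CohB1.tensorPow L (k * d), ⊤), ∀ (W : X.Opens) (e : Γ(L, W)) (he : IsGen L W e),
      co (k * d) ρ le_top he = ∑ i ∈ Finset.range (d + 1),
        (c i : Γ(X, W)) * co k σ le_top he ^ i * co k τ le_top he ^ (d - i) := by
  obtain ⟨ρ, hρ⟩ := exists_of_coeff hL (k * d) ⊤ (fun W h e he => ∑ i ∈ Finset.range (d + 1),
      (c i : Γ(X, W)) * co k σ h he ^ i * co k τ h he ^ (d - i))
    (fun W W' h h' e he => by
      rw [map_sum]
      refine Finset.sum_congr rfl fun i _ => ?_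
      rw [map_mul, map_mul, map_pow, map_pow, map_natCast, co_res, co_res])
    (fun W h e he u hu => by
      rw [Finset.mul_sum]
      refine Finset.sum_congr rfl fun i hi => ?_
      have hdi : d = i + (d - i) := by have := Finset.mem_range.1 hi; omega
      rw [← co_smul σ h he hu, ← co_smul τ h he hu, mul_pow, mul_pow, ← pow_mul, ← pow_mul]
      conv_lhs => rw [hdi, mul_add, pow_add]
      rw [Nat.add_sub_cancel_left]
      ring)
  exact ⟨ρ, fun W e he => hρ W le_top e he⟩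

theorem locus_zero (hL : PicF.IsInvertible L) (k : ℕ) : locus (0 : Γ(CohB1.tensorPow L k, ⊤)) = ⊥ := by
  rw [← zero_smul Γ(X, ⊤) (0 : Γ(CohB1.tensorPow L k, ⊤)), locus_smul (isInvertible_tensorPow hL k),
    Scheme.basicOpen_zero, bot_inf_eq]

theorem appLE_sum {Y : Scheme.{u}} (g : Y ⟶ X) {V : X.Opens} {D : Y.Opens} (h : D ≤ g ⁻¹ᵁ V)
    (u : Γ(X, V)) (m : ℕ) :
    g.appLE V D h (∑ i ∈ Finset.range m, u ^ i) = ∑ i ∈ Finset.range m, g.appLE V D h u ^ i := by
  rw [map_sum]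
  exact Finset.sum_congr rfl fun i _ => map_pow _ _ _

/-- An open `U` of `X` is good if it is an affine locus inside `W`. -/
def Good (L : X.Modules) (W U : X.Opens) : Prop :=
  U ≤ W ∧ IsAffineOpen U ∧ ∃ (k : ℕ) (σ : Γ(CohB1.tensorPow L k, ⊤)), 0 < k ∧ locus σ = U

/-- Two affine loci merge into one which still contains the given integral points. -/
theorem exists_good_of_pair (hL : PicF.IsInvertible L) {W U V : X.Opens} (hU : Good L W U) (hV : Good L W V)
    (k₀ A : Type u) [Field k₀] [CommRing A] [Algebra k₀ A] [Algebra.IsIntegral k₀ A]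
    (g : Spec (CommRingCat.of A) ⟶ X) [IsAffineHom g] :
    ∃ R : X.Opens, Good L W R ∧ ∀ z, g z ∈ U ⊔ V → g z ∈ R := by
  classical
  obtain ⟨hUW, hUa, k₁, σ₁, hk₁, hσ₁⟩ := hU
  obtain ⟨hVW, hVa, k₂, τ₂, hk₂, hτ₂⟩ := hV
  obtain ⟨σ, hσ⟩ := exists_pow_section hL σ₁ hk₂ (k₁ * k₂) rfl
  obtain ⟨τ, hτ⟩ := exists_pow_section hL τ₂ hk₁ (k₁ * k₂) (mul_comm _ _)
  rw [hσ₁] at hσ
  rw [hτ₂] at hτ
  have hk : 0 < k₁ * k₂ := Nat.mul_pos hk₁ hk₂
  generalize k₁ * k₂ = k at σ τ hσ hτ hk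
  -- the ratio on `V`
  obtain ⟨u, hu', -⟩ := (isGen_locus τ).exists_eq le_rfl
    (res (CohB1.tensorPow L k) (le_top : locus τ ≤ ⊤) σ)
  rw [res_self] at hu'
  obtain ⟨u, hu⟩ : ∃ u : Γ(X, V), ∀ (W' : X.Opens) (e : Γ(L, W')) (he : IsGen L W' e) (h : W' ≤ V),
      co k σ le_top he = rres h u * co k τ le_top he := by
    subst hτ
    refine ⟨u, fun W' e he h => co_unique _ _ _ ?_⟩
    rw [← res_res (CohB1.tensorPow L k) (le_top : locus τ ≤ ⊤) h, hu', res_smul, res_res,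
      co_spec τ le_top he, smul_smul]
  -- the polynomial killing the ratio on the pieces
  have hVg : IsCompact ((g ⁻¹ᵁ V : (Spec (CommRingCat.of A)).Opens) : Set (Spec (CommRingCat.of A))) :=
    (hVa.preimage g).isCompact
  have hloc : ∀ z : ↥(g ⁻¹ᵁ V), ∃ (D : (Spec (CommRingCat.of A)).Opens) (h : D ≤ g ⁻¹ᵁ V)
      (P : Polynomial k₀) (φ : k₀ →+* Γ(Spec (CommRingCat.of A), D)),
      z.1 ∈ D ∧ P.Monic ∧ Polynomial.eval₂ φ (g.appLE V D h u) P = 0 := by
    rintro ⟨z, hz⟩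
    obtain ⟨f, hfle, hzf⟩ := (isAffineOpen_top (Spec (CommRingCat.of A))).exists_basicOpen_le ⟨z, hz⟩
      (TopologicalSpace.Opens.mem_top z)
    letI algT : Algebra k₀ Γ(Spec (CommRingCat.of A), ⊤) :=
      ((Scheme.ΓSpecIso (CommRingCat.of A)).inv.hom.comp (algebraMap k₀ A)).toAlgebra
    haveI : Algebra.IsIntegral k₀ Γ(Spec (CommRingCat.of A), ⊤) := ⟨fun b => by
      obtain ⟨a, rfl⟩ := (ConcreteCategory.bijective_of_isIso (Scheme.ΓSpecIso (CommRingCat.of A)).inv).2 b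
      let φ : A →ₐ[k₀] Γ(Spec (CommRingCat.of A), ⊤) :=
        { (Scheme.ΓSpecIso (CommRingCat.of A)).inv.hom with commutes' := fun _ => rfl }
      exact (Algebra.IsIntegral.isIntegral a).map φ⟩
    let D := (Spec (CommRingCat.of A)).basicOpen f
    letI algD : Algebra k₀ Γ(Spec (CommRingCat.of A), D) :=
      ((algebraMap Γ(Spec (CommRingCat.of A), ⊤) Γ(Spec (CommRingCat.of A), D)).comp
        (algebraMap k₀ Γ(Spec (CommRingCat.of A), ⊤))).toAlgebra
    haveI : IsScalarTower k₀ Γ(Spec (CommRingCat.of A), ⊤) Γ(Spec (CommRingCat.of A), D) :=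
      IsScalarTower.of_algebraMap_eq' rfl
    haveI : IsLocalization.Away f Γ(Spec (CommRingCat.of A), D) :=
      (isAffineOpen_top (Spec (CommRingCat.of A))).isLocalization_basicOpen f
    haveI := isIntegral_away (k := k₀) f Γ(Spec (CommRingCat.of A), D)
    obtain ⟨P, hP, hP0⟩ := Algebra.IsIntegral.isIntegral (R := k₀) (g.appLE V D hfle u)
    exact ⟨D, hfle, P, algebraMap k₀ _, hzf, hP, hP0⟩
  choose D hD P φ hzD hPm hP0 using hloc
  obtain ⟨T, hT⟩ := hVg.elim_finite_subcover (fun z => (D z : Set (Spec (CommRingCat.of A))))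
    (fun z => (D z).2) fun z hz => Set.mem_iUnion.2 ⟨⟨z, hz⟩, hzD _⟩
  obtain ⟨q, hq, a, b, hab⟩ := exists_prime_isCoprime (∏ z ∈ T, P z)
    (Polynomial.monic_prod_of_monic _ _ fun z _ => hPm z).ne_zero
  obtain ⟨m, rfl⟩ : ∃ m, q = m + 1 := ⟨q - 1, by have := hq.two_le; omega⟩
  have hm : 0 < m := by have := hq.two_le; omega
  have hgood : ∀ z, g z ∈ V → g z ∈ X.basicOpen (∑ i ∈ Finset.range (m + 1), u ^ i) := by
    intro z hz
    obtain ⟨w, hwT, hzw⟩ := Set.mem_iUnion₂.1 (hT hz)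
    have h1 := congrArg (Polynomial.eval₂ (φ w) (g.appLE V (D w) (hD w) u)) hab
    rw [Polynomial.eval₂_add, Polynomial.eval₂_mul, Polynomial.eval₂_mul, Polynomial.eval₂_one,
      Polynomial.eval₂_eq_zero_of_dvd_of_eval₂_eq_zero _ _ (Finset.dvd_prod_of_mem P hwT) (hP0 w),
      mul_zero, zero_add, geomSum, Polynomial.eval₂_finsetSum] at h1
    simp only [Polynomial.eval₂_X_pow] at h1
    rw [← appLE_sum g (hD w) u (m + 1), mul_comm] at h1
    have h2 : z ∈ (Spec (CommRingCat.of A)).basicOpen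
        (g.appLE V (D w) (hD w) (∑ i ∈ Finset.range (m + 1), u ^ i)) := by
      rw [Scheme.basicOpen_of_isUnit _ (IsUnit.of_mul_eq_one _ h1)]
      exact hzw
    rw [Scheme.basicOpen_appLE] at h2
    exact h2.2
  -- the merged section
  obtain ⟨ρ₁, hρ₁⟩ := exists_form2 hL σ τ m (fun i => if i = 0 then 0 else 1)
  obtain ⟨ρ₂, hρ₂⟩ := exists_form2 hL σ τ m (fun i => if i = 0 then 1 else 0)
  have hK := isInvertible_tensorPow hL (k * m)
  have hco : ∀ (W' : X.Opens) (e : Γ(L, W')) (he : IsGen L W' e),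
      co (k * m) (ρ₁ + ρ₂) le_top he =
        ∑ i ∈ Finset.range (m + 1), co k σ le_top he ^ i * co k τ le_top he ^ (m - i) := by
    intro W' e he
    have : co (k * m) (ρ₁ + ρ₂) le_top he = co (k * m) ρ₁ le_top he + co (k * m) ρ₂ le_top he :=
      co_unique _ _ _ (by rw [map_add, co_spec ρ₁ le_top he, co_spec ρ₂ le_top he, add_smul])
    rw [this, hρ₁, hρ₂, ← Finset.sum_add_distrib]
    refine Finset.sum_congr rfl fun i _ => ?_
    by_cases hi : i = 0 <;> simp [hi]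
  have h₁le : locus ρ₁ ≤ U := by
    intro x hx
    obtain ⟨W', e, hxW, he⟩ := exists_isGen hL x
    rw [← hσ, mem_locus_iff_co σ he hxW]
    rw [mem_locus_iff_co ρ₁ he hxW, hρ₁, map_sum] at hx
    by_contra hn
    refine (IsLocalRing.mem_maximalIdeal _).1 (Ideal.sum_mem _ fun i hi => ?_) hx
    rw [map_mul, map_mul]
    by_cases h0 : i = 0
    · simp [h0]
    · refine Ideal.mul_mem_right _ _ (Ideal.mul_mem_left _ _ ?_)
      rw [map_pow]
      exact Ideal.pow_mem_of_mem _ ((IsLocalRing.mem_maximalIdeal _).2 hn) _ (by omega)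
  have h₂le : locus ρ₂ ≤ V := by
    intro x hx
    obtain ⟨W', e, hxW, he⟩ := exists_isGen hL x
    rw [← hτ, mem_locus_iff_co τ he hxW]
    rw [mem_locus_iff_co ρ₂ he hxW, hρ₂, map_sum] at hx
    by_contra hn
    refine (IsLocalRing.mem_maximalIdeal _).1 (Ideal.sum_mem _ fun i hi => ?_) hx
    rw [map_mul, map_mul]
    by_cases h0 : i = 0
    · refine Ideal.mul_mem_left _ _ ?_
      rw [map_pow]
      exact Ideal.pow_mem_of_mem _ ((IsLocalRing.mem_maximalIdeal _).2 hn) _ (by omega)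
    · simp [h0]
  have hRle : locus (ρ₁ + ρ₂) ≤ U ⊔ V := by
    intro x hx
    obtain ⟨W', e, hxW, he⟩ := exists_isGen hL x
    by_contra hn
    have hns : ¬ IsUnit (X.presheaf.germ W' x hxW (co k σ le_top he)) := fun h =>
      hn (Or.inl (by rw [← hσ]; exact (mem_locus_iff_co σ he hxW).2 h))
    have hnt : ¬ IsUnit (X.presheaf.germ W' x hxW (co k τ le_top he)) := fun h =>
      hn (Or.inr (by rw [← hτ]; exact (mem_locus_iff_co τ he hxW).2 h))
    rw [mem_locus_iff_co (ρ₁ + ρ₂) he hxW, hco, map_sum] at hx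
    refine (IsLocalRing.mem_maximalIdeal _).1 (Ideal.sum_mem _ fun i hi => ?_) hx
    rw [map_mul, map_pow, map_pow]
    rcases Nat.eq_zero_or_pos i with h0 | h0
    · exact Ideal.mul_mem_left _ _ (Ideal.pow_mem_of_mem _ ((IsLocalRing.mem_maximalIdeal _).2 hnt) _
        (by omega))
    · exact Ideal.mul_mem_right _ _ (Ideal.pow_mem_of_mem _ ((IsLocalRing.mem_maximalIdeal _).2 hns) _ h0)
  have haff : IsAffineOpen (locus (ρ₁ + ρ₂)) := by
    have key : ∀ {O : X.Opens} (ρ : Γ(CohB1.tensorPow L (k * m), ⊤)), IsAffineOpen O → locus ρ ≤ O →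
        IsAffineOpen (locus ρ ⊓ locus (ρ₁ + ρ₂)) := by
      intro O ρ hO hρ
      have h1 := isAffineOpen_locus_of_le hL (res _ (le_top : O ≤ ⊤) (ρ₁ + ρ₂)) hO le_rfl (locus_le _)
      rw [locus_res] at h1
      have h2 := isAffineOpen_locus_of_le hL (res _ (le_top : locus (ρ₁ + ρ₂) ⊓ O ≤ ⊤) ρ) h1 le_rfl
        (locus_le _)
      rw [locus_res] at h2
      rwa [← inf_assoc, inf_eq_left.mpr (inf_le_left.trans hρ)] at h2
    obtain ⟨a₁, ha₁, -⟩ := (isGen_locus (ρ₁ + ρ₂)).exists_eq le_rfl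
      (res (CohB1.tensorPow L (k * m)) (le_top : locus (ρ₁ + ρ₂) ≤ ⊤) ρ₁)
    obtain ⟨a₂, ha₂, -⟩ := (isGen_locus (ρ₁ + ρ₂)).exists_eq le_rfl
      (res (CohB1.tensorPow L (k * m)) (le_top : locus (ρ₁ + ρ₂) ≤ ⊤) ρ₂)
    rw [res_self] at ha₁ ha₂
    have hsum : a₁ + a₂ = 1 := (isGen_locus (ρ₁ + ρ₂)).injective le_rfl (by
      rw [res_self, add_smul, ← ha₁, ← ha₂, ← map_add, one_smul])
    refine isAffineOpen_of_isAffineOpen_basicOpen _ {a₁, a₂} ?_ ?_
    · rw [Ideal.eq_top_iff_one, ← hsum]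
      exact Ideal.add_mem _ (Ideal.subset_span (by simp)) (Ideal.subset_span (by simp))
    · rintro a (rfl | rfl)
      · rw [← locus_inf le_top (isGen_locus (ρ₁ + ρ₂)) ρ₁ ha₁]
        exact key ρ₁ hUa h₁le
      · rw [← locus_inf le_top (isGen_locus (ρ₁ + ρ₂)) ρ₂ ha₂]
        exact key ρ₂ hVa h₂le
  refine ⟨locus (ρ₁ + ρ₂), ⟨hRle.trans (sup_le hUW hVW), haff, k * m, ρ₁ + ρ₂, Nat.mul_pos hk hm, rfl⟩,
    fun z hz => ?_⟩
  by_cases hzV : g z ∈ V
  · obtain ⟨W', e, hxW, he⟩ := exists_isGen hL (g z)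
    have he' := he.restrict (inf_le_left : W' ⊓ V ≤ W')
    rw [mem_locus_iff_co (ρ₁ + ρ₂) he' ⟨hxW, hzV⟩, hco]
    have hb := (X.mem_basicOpen _ (g z) hzV).1 (hgood z hzV)
    have hb' : IsUnit (X.presheaf.germ (W' ⊓ V) (g z) ⟨hxW, hzV⟩
        (rres (inf_le_right : W' ⊓ V ≤ V) (∑ i ∈ Finset.range (m + 1), u ^ i))) := by
      exact (X.presheaf.germ_res_apply (homOfLE (inf_le_right : W' ⊓ V ≤ V)) (g z) ⟨hxW, hzV⟩ _) ▸ hb
    have hτu : IsUnit (X.presheaf.germ (W' ⊓ V) (g z) ⟨hxW, hzV⟩ (co k τ le_top he')) :=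
      (mem_locus_iff_co τ he' ⟨hxW, hzV⟩).1 (by rw [hτ]; exact hzV)
    have e1 : ∑ i ∈ Finset.range (m + 1), co k σ le_top he' ^ i * co k τ le_top he' ^ (m - i) =
        co k τ le_top he' ^ m * rres (inf_le_right : W' ⊓ V ≤ V) (∑ i ∈ Finset.range (m + 1), u ^ i) := by
      rw [map_sum, Finset.mul_sum]
      refine Finset.sum_congr rfl fun i hi => ?_
      have hi' : i + (m - i) = m := by have := Finset.mem_range.1 hi; omega
      rw [hu _ _ he' inf_le_right, mul_pow, map_pow, mul_assoc, ← pow_add, hi', mul_comm]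
    rw [e1, map_mul, map_pow]
    exact (hτu.pow m).mul hb'
  · have hzU : g z ∈ U := hz.resolve_right hzV
    obtain ⟨W', e, hxW, he⟩ := exists_isGen hL (g z)
    rw [mem_locus_iff_co (ρ₁ + ρ₂) he hxW, hco, map_sum, Finset.sum_range_succ]
    have h1 : IsUnit (X.presheaf.germ W' (g z) hxW (co k σ le_top he ^ m * co k τ le_top he ^ (m - m))) := by
      rw [Nat.sub_self, pow_zero, mul_one, map_pow]
      exact ((mem_locus_iff_co σ he hxW).1 (by rw [hσ]; exact hzU)).pow m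
    by_contra hn
    refine (IsLocalRing.mem_maximalIdeal _).1 ?_ h1
    have h2 : ∀ i ∈ Finset.range m, X.presheaf.germ W' (g z) hxW
        (co k σ le_top he ^ i * co k τ le_top he ^ (m - i)) ∈ IsLocalRing.maximalIdeal _ := fun i hi => by
      rw [map_mul, map_pow, map_pow]
      refine Ideal.mul_mem_left _ _ (Ideal.pow_mem_of_mem _ ((IsLocalRing.mem_maximalIdeal _).2 fun h => ?_) _
        (by have := Finset.mem_range.1 hi; omega))
      exact hzV (by rw [← hτ]; exact (mem_locus_iff_co τ he hxW).2 h)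
    exact (Ideal.add_mem_iff_right _ (Ideal.sum_mem _ h2)).1 ((IsLocalRing.mem_maximalIdeal _).2 hn)

end Groth.Agent.AmpleInt

end
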